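import Groth.Agent.CAlgH3.DualSix
import Groth.Agent.SGA3cLib.BCPoints
import Groth.Agent.Et18.ConstMaps
import Groth.Prelude

/-!
# The internal Hom out of a locally constant lattice is exact
-/

set_option autoImplicit false
set_option linter.style.haveILetI false
set_option linter.unusedSectionVars false
set_option backward.isDefEq.respectTransparency.types false
set_option maxHeartbeats 1000000

universe u

open CategoryTheory CategoryTheory.Limits MonoidalCategory CartesianMonoidalCategory MonObj AlgebraicGeometry Opposite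

namespace Groth.Agent.ExtLat27

variable {S : Scheme.{u}}

theorem mem_of_cover {W : Over S} {R : Sieve W} {Idx : Type u} (Z : Idx → Over S) (p : ∀ i, Z i ⟶ W)
    (hp : ∀ i, Flat (p i).left ∧ LocallyOfFinitePresentation (p i).left)
    (hsurj : ∀ t : W.left, ∃ i, t ∈ Set.range (p i).left) (h : ∀ i, R.arrows (p i)) :
    R ∈ QuotSh.J Scheme.fppfPrecoverage S W := by
  rw [GrothendieckTopology.mem_over_iff]
  refine GrothendieckTopology.superset_covering _ ?_ (Precoverage.generate_mem_toGrothendieck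
    ((Scheme.ofArrows_mem_precoverage_iff (P := @Flat ⊓ @LocallyOfFinitePresentation) (X := fun i => (Z i).left) (f := fun i => (p i).left)).2 ⟨hsurj, hp⟩))
  rw [Sieve.generate_le_iff]
  rintro Y f ⟨i⟩
  refine (Sieve.overEquiv_iff _ _).2 ?_
  let j : Over.mk ((p i).left ≫ W.hom) ⟶ Z i := Over.homMk (𝟙 _) ((Category.id_comp _).trans (Over.w (p i)).symm)
  have e := R.downward_closed (h i) j
  convert e using 1
  exact Over.OverMorphism.ext (Category.id_comp _).symm

theorem mem_of_local {W : Over S} {R : Sieve W} {Idx : Type u} (Z : Idx → Over S) (p : ∀ i, Z i ⟶ W)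
    (hp : ∀ i, Flat (p i).left ∧ LocallyOfFinitePresentation (p i).left)
    (hsurj : ∀ t : W.left, ∃ i, t ∈ Set.range (p i).left)
    (h : ∀ i, R.pullback (p i) ∈ QuotSh.J Scheme.fppfPrecoverage S (Z i)) :
    R ∈ QuotSh.J Scheme.fppfPrecoverage S W := by
  refine GrothendieckTopology.transitive _
    (mem_of_cover (R := Sieve.generate (Presieve.ofArrows Z p)) Z p hp hsurj
      fun i => Sieve.le_generate _ _ _ ⟨i⟩) R ?_
  rintro Y f ⟨Y', a, b, hb, rfl⟩
  obtain ⟨i⟩ := hb
  rw [Sieve.pullback_comp]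
  exact GrothendieckTopology.pullback_stable _ _ (h i)

theorem mem_over_of_cover {U : Over S} {W : Over U} {R : Sieve W} {Idx : Type u} (Z : Idx → Over S)
    (p : ∀ i, Z i ⟶ W.left)
    (hp : ∀ i, Flat (p i).left ∧ LocallyOfFinitePresentation (p i).left)
    (hsurj : ∀ t : W.left.left, ∃ i, t ∈ Set.range (p i).left)
    (h : ∀ i, R.arrows (Over.homMk (p i) : Over.mk (p i ≫ W.hom) ⟶ W)) :
    R ∈ (QuotSh.J Scheme.fppfPrecoverage S).over U W := by
  rw [GrothendieckTopology.mem_over_iff]
  exact mem_of_cover Z p hp hsurj fun i => (Sieve.overEquiv_iff _ _).2 (h i)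

/-- A presentation of `X` over `U` as a constant lattice. -/
structure Pres (X U : Over S) [GrpObj X] (r : ℕ) where
  c : (Fin r → ℤ) → (U ⟶ X)
  mul : ∀ n n', c (n + n') = c n * c n'
  sep : ∀ (W : Over S) (a : W ⟶ U) (n n' : Fin r → ℤ), a ≫ c n = a ≫ c n' → Nonempty W.left → n = n'
  loc : ∀ (W : Over S) (a : W ⟶ U) (x : W ⟶ X) (t : W.left), ∃ (O : W.left.Opens) (n : Fin r → ℤ),
    t ∈ O ∧ O.ι ≫ x.left = O.ι ≫ a.left ≫ (c n).left

namespace Pres

variable {X U : Over S} [GrpObj X] [IsCommMonObj X] {r : ℕ} (Q : Pres X U r)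

/-- Restriction of a presentation. -/
def restrict {V : Over S} (m : V ⟶ U) : Pres X V r where
  c n := m ≫ Q.c n
  mul n n' := by rw [Q.mul, MonObj.comp_mul]
  sep W a n n' h hW := Q.sep W (a ≫ m) n n' (by simpa only [Category.assoc] using h) hW
  loc W a x t := by
    obtain ⟨O, n, hO, h⟩ := Q.loc W (a ≫ m) x t
    exact ⟨O, n, hO, by simpa only [Over.comp_left, Category.assoc] using h⟩

/-- The constant presheaf on the lattice. -/
noncomputable abbrev P0 (U : Over S) (r : ℕ) : (Over U)ᵒᵖ ⥤ AddCommGrpCat.{u + 1} :=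
  (Functor.const _).obj (AddCommGrpCat.of (ULift.{u + 1} (Fin r → ℤ)))

/-- The comparison map to the points. -/
noncomputable def cmpHom : P0 U r ⟶ ((CGrpSh.pts Scheme.fppfPrecoverage X).over U).obj where
  app W := AddCommGrpCat.ofHom (AddMonoidHom.mk'
    (fun n => (ULift.up (Additive.ofMul (W.unop.hom ≫ Q.c n.down)) : ULift.{u + 1} (Additive (W.unop.left ⟶ X))))
    (fun n n' => ULift.ext _ _ (by
      show Additive.ofMul (W.unop.hom ≫ Q.c (n.down + n'.down)) = _
      rw [Q.mul, MonObj.comp_mul]; rfl)))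
  naturality W W' t := AddCommGrpCat.ext fun n => ULift.ext _ _ (congrArg Additive.ofMul (by
    show W'.unop.hom ≫ Q.c n.down = t.unop.left ≫ W.unop.hom ≫ Q.c n.down
    rw [← Category.assoc, Over.w]))

theorem isLocallyInjective_comp : Presheaf.IsLocallyInjective ((QuotSh.J Scheme.fppfPrecoverage S).over U) Q.cmpHom := by
  refine ⟨fun {W} n n' h => ?_⟩
  obtain ⟨W⟩ := W
  by_cases hn : n = n'
  · subst hn
    rw [Presheaf.equalizerSieve_self_eq_top]
    exact GrothendieckTopology.top_mem _ _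
  · haveI : IsEmpty W.left.left := not_nonempty_iff.1 fun hW => hn (ULift.ext _ _
      (Q.sep W.left W.hom n.down n'.down (congrArg (fun z => (ULift.down z).toMul) h) hW))
    exact mem_over_of_cover (Idx := PEmpty.{u + 1}) (fun i => i.elim) (fun i => i.elim) (fun i => i.elim)
      (fun t => isEmptyElim t) (fun i => i.elim)

theorem isLocallySurjective_comp : Presheaf.IsLocallySurjective ((QuotSh.J Scheme.fppfPrecoverage S).over U) Q.cmpHom := by
  refine ⟨fun {W} x => ?_⟩
  choose O n hO hn using fun t => Q.loc W.left W.hom (ULift.down x).toMul t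
  refine mem_over_of_cover (fun t => Over.mk ((O t).ι ≫ W.left.hom)) (fun t => Over.homMk (O t).ι)
    (fun t => ⟨(inferInstance : Flat (O t).ι), (inferInstance : LocallyOfFinitePresentation (O t).ι)⟩)
    (fun t => ⟨t, ⟨t, hO t⟩, rfl⟩) (fun t => ⟨ULift.up (n t), ULift.ext _ _ (congrArg Additive.ofMul ?_)⟩)
  refine Over.OverMorphism.ext ?_
  show ((O t).ι ≫ W.hom.left) ≫ (Q.c (n t)).left = (O t).ι ≫ (ULift.down x).toMul.left
  rw [Category.assoc, hn]

theorem bijective_cmpHom (G : Sheaf ((QuotSh.J Scheme.fppfPrecoverage S).over U) AddCommGrpCat.{u + 1}) :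
    Function.Bijective fun g : ((CGrpSh.pts Scheme.fppfPrecoverage X).over U).obj ⟶ G.obj => Q.cmpHom ≫ g := by
  haveI := Q.isLocallyInjective_comp
  haveI := Q.isLocallySurjective_comp
  exact (((QuotSh.J Scheme.fppfPrecoverage S).over U).W_of_isLocallyBijective Q.cmpHom) G.obj G.property

include Q in
/-- Local lifting of homomorphisms out of a presented lattice. -/
theorem imageSieve_mem {A B : BigSite.Ab Scheme.fppfPrecoverage S} (g : A ⟶ B) [Sheaf.IsLocallySurjective g]
    (φ : (CGrpSh.pts Scheme.fppfPrecoverage X).over U ⟶ B.over U) :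
    Presheaf.imageSieve (HomSh.homShMap (QuotSh.J Scheme.fppfPrecoverage S)
      (𝟙 (CGrpSh.pts Scheme.fppfPrecoverage X)) g).hom φ ∈ QuotSh.J Scheme.fppfPrecoverage S U := by
  classical
  let J := QuotSh.J Scheme.fppfPrecoverage S
  let F := CGrpSh.pts Scheme.fppfPrecoverage X
  let sec : (Fin r → ℤ) → (F.over U).obj.obj (op (Over.mk (𝟙 U))) := fun n =>
    (ULift.up (Additive.ofMul (Q.c n)) : ULift.{u + 1} (Additive (U ⟶ X)))
  have hsec : ∀ n n', sec (n + n') = sec n + sec n' := fun n n' =>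
    ULift.ext _ _ (congrArg Additive.ofMul (Q.mul n n'))
  let β : (Fin r → ℤ) →+ B.obj.obj (op U) := AddMonoidHom.mk'
    (fun n => φ.hom.app (op (Over.mk (𝟙 U))) (sec n))
    (fun n n' => (congrArg (φ.hom.app (op (Over.mk (𝟙 U)))) (hsec n n')).trans
      (map_add (φ.hom.app (op (Over.mk (𝟙 U)))).hom _ _))
  let b : Fin r → B.obj.obj (op U) := fun i => β (Pi.single i 1)
  have hβ : ∀ n, β n = ∑ i, n i • b i := fun n => by
    conv_lhs => rw [← Finset.univ_sum_single n]
    rw [map_sum]
    refine Finset.sum_congr rfl fun i _ => ?_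
    rw [← map_zsmul, ← Pi.single_smul]; simp
  have hR : ∀ s : Finset (Fin r), s.inf (fun i => Presheaf.imageSieve g.hom (b i)) ∈ J U := fun s => by
    induction s using Finset.induction_on with
    | empty => rw [Finset.inf_empty]; exact GrothendieckTopology.top_mem _ _
    | insert i s hi ih =>
      rw [Finset.inf_insert]
      exact GrothendieckTopology.intersection_covering _ (Presheaf.imageSieve_mem J g.hom (b i)) ih
  refine GrothendieckTopology.superset_covering _ (fun V m hm => ?_) (hR Finset.univ)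
  choose a ha using fun i => (Finset.inf_le (f := fun i => Presheaf.imageSieve g.hom (b i)) (Finset.mem_univ i)) _ hm
  let L : ULift.{u + 1} (Fin r → ℤ) →+ A.obj.obj (op V) := AddMonoidHom.mk' (fun n => ∑ i, n.down i • a i)
    (fun n n' => by simp [add_smul, Finset.sum_add_distrib])
  let h : P0 V r ⟶ (A.over V).obj :=
    { app := fun W => AddCommGrpCat.ofHom ((A.obj.map W.unop.hom.op).hom.comp L)
      naturality := fun W W' t => AddCommGrpCat.ext fun n => by
        show A.obj.map W'.unop.hom.op (L n) = A.obj.map t.unop.left.op (A.obj.map W.unop.hom.op (L n))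
        rw [← Functor.map_comp_apply, ← op_comp, Over.w] }
  obtain ⟨ψ₀, hψ₀⟩ := ((Q.restrict m).bijective_cmpHom (A.over V)).2 h
  let ψ : F.over V ⟶ A.over V := ⟨ψ₀⟩
  refine ⟨ψ, ?_⟩
  show (J.overPullback _ V).map (𝟙 F) ≫ ψ ≫ (J.overPullback _ V).map g = (J.overMapPullback _ m).map φ
  rw [CategoryTheory.Functor.map_id, Category.id_comp]
  refine Sheaf.hom_ext (((Q.restrict m).bijective_cmpHom (B.over V)).1 ?_)
  refine NatTrans.ext (funext fun W => AddCommGrpCat.ext fun n => ?_)
  obtain ⟨W⟩ := W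
  have h1 : ψ₀.app (op W) ((Q.restrict m).cmpHom.app (op W) n) = A.obj.map W.hom.op (L n) :=
    ConcreteCategory.congr_hom (congrArg (fun z => NatTrans.app z (op W)) hψ₀) n
  show g.hom.app (op W.left) (ψ₀.app (op W) ((Q.restrict m).cmpHom.app (op W) n)) =
    φ.hom.app (op ((Over.map m).obj W)) (ULift.up (Additive.ofMul (W.hom ≫ m ≫ Q.c n.down)))
  rw [h1, NatTrans.naturality_apply g.hom W.hom.op (L n)]
  let t : (Over.map m).obj W ⟶ Over.mk (𝟙 U) := Over.homMk (W.hom ≫ m) (Category.comp_id _)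
  have h2 := NatTrans.naturality_apply φ.hom t.op (ULift.up (Additive.ofMul (Q.c n.down)))
  have h3 : φ.hom.app (op ((Over.map m).obj W)) (ULift.up (Additive.ofMul (W.hom ≫ m ≫ Q.c n.down))) =
      B.obj.map (W.hom ≫ m).op (β n.down) := by
    rw [← Category.assoc]
    exact h2
  rw [h3, hβ, op_comp, Functor.map_comp_apply]
  refine congrArg (B.obj.map W.hom.op) ?_
  show g.hom.app (op V) (∑ i, n.down i • a i) = _
  rw [map_sum, map_sum]
  refine Finset.sum_congr rfl fun i _ => ?_
  rw [map_zsmul, map_zsmul, ha]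

end Pres

/-- Relabelling a constant scheme. -/
noncomputable def constULift (T : Scheme.{u}) (M : Type) : TwC.const T M ≅ TwC.const T (ULift.{u} M) where
  hom := TwC.constMap T ULift.up
  inv := TwC.constMap T ULift.down
  hom_inv_id := Over.OverMorphism.ext (Sigma.hom_ext _ _ fun m => by simp [TwC.constMap])
  inv_hom_id := Over.OverMorphism.ext (Sigma.hom_ext _ _ fun m => by simp [TwC.constMap])

/-- A split lattice gives presentations. -/
theorem exists_pres {X : Over S} [GrpObj X] [IsCommMonObj X] {S' : Scheme.{u}} (f : S' ⟶ S) (r : ℕ)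
    (e₀ : Red.bc f X ≅ TwC.const S' (Multiplicative (Fin r → ℤ)))
    (he₀ : TwC.IsConstGrp (Multiplicative (Fin r → ℤ)) (Red.bc f X) e₀)
    {T : Scheme.{u}} (w : T ⟶ S') : Nonempty (Pres X (Over.mk (w ≫ f)) r) := by
  let M := Multiplicative (Fin r → ℤ)
  let e := e₀ ≪≫ constULift S' M
  have hc : ∀ m : M, Et18.ConstTorsor.c e (ULift.up m) = TwC.pt S' M m ≫ e₀.inv := fun m => by
    show TwC.pt S' (ULift.{u} M) (ULift.up m) ≫ (constULift S' M).inv ≫ e₀.inv = _
    rw [← Category.assoc]
    congr 1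
    exact Over.OverMorphism.ext (by simp [constULift, TwC.constMap, TwC.pt])
  let U' : Over S' := Over.mk w
  let cp : (Fin r → ℤ) → (U' ⟶ Red.bc f X) := fun n =>
    toUnit U' ≫ Et18.ConstTorsor.c e (ULift.up (Multiplicative.ofAdd n))
  let c : (Fin r → ℤ) → ((Over.map f).obj U' ⟶ X) := fun n => (SGA3cLib.BCPoints.pt f X U').symm (cp n)
  have hfst : ∀ n, (c n).left = (cp n).left ≫ pullback.fst X.hom f := fun n => rfl
  let gam : ∀ (W : Over S) (a : W ⟶ Over.mk (w ≫ f)) (x : W ⟶ X), W.left ⟶ (Red.bc f X).left := fun W a x =>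
    pullback.lift x.left (a.left ≫ w) (by rw [Category.assoc, Over.w x]; exact (Over.w a).symm)
  have hgam : ∀ (W : Over S) (a : W ⟶ Over.mk (w ≫ f)) (n : Fin r → ℤ),
      gam W a (a ≫ c n) = (a.left ≫ w) ≫ (Et18.ConstTorsor.c e (ULift.up (Multiplicative.ofAdd n))).left := by
    intro W a n
    refine pullback.hom_ext ?_ ?_
    · rw [pullback.lift_fst, Over.comp_left, hfst]
      simp only [Category.assoc]
      rfl
    · rw [pullback.lift_snd]
      exact ((Category.assoc _ _ _).trans ((congrArg ((a.left ≫ w) ≫ ·) (Et18.ConstTorsor.c_left_hom e _)).trans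
        (Category.comp_id _))).symm
  have hidx : ∀ (W : Over S) (a : W ⟶ Over.mk (w ≫ f)) (n : Fin r → ℤ) (t : W.left),
      Et18.ConstMaps.idx e (gam W a (a ≫ c n)) t = ULift.up (Multiplicative.ofAdd n) := fun W a n t =>
    Et18.ConstMaps.idx_eq e _ _ _ ⟨(a.left ≫ w) t, by rw [hgam]; rfl⟩
  refine ⟨{ c := c, mul := fun n n' => ?_, sep := fun W a n n' h hW => ?_, loc := fun W a x t => ?_ }⟩
  · apply (SGA3cLib.BCPoints.pt f X U').injective
    rw [SGA3cLib.BCPoints.pt_mul, Equiv.apply_symm_apply, Equiv.apply_symm_apply, Equiv.apply_symm_apply]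
    show toUnit U' ≫ _ = (toUnit U' ≫ _) * (toUnit U' ≫ _)
    rw [← MonObj.comp_mul, hc, hc, hc, he₀]
    rfl
  · obtain ⟨t⟩ := hW
    have := (hidx W a n t).symm.trans ((congrArg (fun z => Et18.ConstMaps.idx e (gam W a z) t) h).trans (hidx W a n' t))
    exact Multiplicative.ofAdd.injective (congrArg ULift.down this)
  · let O : W.left.Opens := ⟨_, Et18.ConstMaps.isOpen_idx e (gam W a x) (Et18.ConstMaps.idx e (gam W a x) t)⟩
    let n : Fin r → ℤ := Multiplicative.toAdd (Et18.ConstMaps.idx e (gam W a x) t).down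
    refine ⟨O, n, rfl, ?_⟩
    have h : O.ι ≫ gam W a x = O.ι ≫ gam W a (a ≫ c n) := by
      refine Et18.ConstMaps.hom_ext_idx e _ _ ?_ fun q => ?_
      · show (O.ι ≫ gam W a x) ≫ pullback.snd X.hom f = (O.ι ≫ gam W a (a ≫ c n)) ≫ pullback.snd X.hom f
        simp only [gam, Category.assoc, pullback.lift_snd]
      · rw [Et18.ConstMaps.idx_comp, Et18.ConstMaps.idx_comp, hidx]
        exact q.2
    have h' := congrArg (· ≫ pullback.fst X.hom f) h
    simpa only [gam, Category.assoc, pullback.lift_fst, Over.comp_left] using h'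

/-- `𝓗om` out of a lattice preserves epimorphisms. -/
theorem preservesEpimorphisms_homShFunctor (X : Over S) [GrpObj X] [IsCommMonObj X]
    (hX : TwC.Locally S TwC.Topology.etale (fun S' f =>
      ∃ (r : ℕ) (e : Red.bc f X ≅ TwC.const S' (Multiplicative (Fin r → ℤ))),
        TwC.IsConstGrp (Multiplicative (Fin r → ℤ)) (Red.bc f X) e)) :
    (HomSh.homShFunctor (QuotSh.J Scheme.fppfPrecoverage S)
      (CGrpSh.pts Scheme.fppfPrecoverage X)).PreservesEpimorphisms := by
  refine ⟨fun {A B} g _ => ?_⟩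
  haveI : Sheaf.IsLocallySurjective g :=
    (Sheaf.isLocallySurjective_iff_epi' (A := AddCommGrpCat.{u + 1}) g).2 inferInstance
  show Epi (HomSh.homShMap (QuotSh.J Scheme.fppfPrecoverage S) (𝟙 _) g)
  rw [← Sheaf.isLocallySurjective_iff_epi' (A := AddCommGrpCat.{u + 1})]
  refine ⟨fun {U} φ => ?_⟩
  choose S' f hf hs r e he using hX
  haveI : ∀ s, Etale (f s) := hf
  refine mem_of_local (fun t : U.left => Over.mk (pullback.snd U.hom (f (U.hom t)) ≫ f (U.hom t)))
    (fun t => Over.homMk (pullback.fst U.hom (f (U.hom t))) pullback.condition)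
    (fun t => ⟨inferInstanceAs (Flat (pullback.fst U.hom (f (U.hom t)))),
      inferInstanceAs (LocallyOfFinitePresentation (pullback.fst U.hom (f (U.hom t))))⟩) (fun t => ?_) (fun t => ?_)
  · obtain ⟨s', hs'⟩ := hs (U.hom t)
    obtain ⟨z, hz, -⟩ := Scheme.Pullback.exists_preimage_pullback (f := U.hom) (g := f (U.hom t)) t s' hs'.symm
    exact ⟨t, z, hz⟩
  · obtain ⟨Q⟩ := exists_pres (f (U.hom t)) _ (e (U.hom t)) (he (U.hom t)) (pullback.snd U.hom (f (U.hom t)))
    refine GrothendieckTopology.superset_covering _ ?_ (Q.imageSieve_mem g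
      (((HomSh.homSh (QuotSh.J Scheme.fppfPrecoverage S) (CGrpSh.pts Scheme.fppfPrecoverage X) B).obj.map
        (Over.homMk (pullback.fst U.hom (f (U.hom t))) pullback.condition :
          Over.mk (pullback.snd U.hom (f (U.hom t)) ≫ f (U.hom t)) ⟶ U).op) φ))
    rintro V m ⟨ψ, hψ⟩
    exact ⟨ψ, hψ.trans (Functor.map_comp_apply _ _ _ _).symm⟩

end Groth.Agent.ExtLat27
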