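import Groth.Agent.ExtLat27.Local
import Groth.Agent.Et18.FinitePush

/-!
# `𝓔xt¹` out of a locally constant lattice vanishes
-/

set_option autoImplicit false
set_option backward.isDefEq.respectTransparency.types false

universe u

open CategoryTheory CategoryTheory.Limits MonoidalCategory CartesianMonoidalCategory MonObj AlgebraicGeometry

namespace Groth.Agent.ExtLat27

/-- Vanishing of the positive `𝓔xt` sheaves when the internal Hom preserves epimorphisms. -/
theorem isZero_extSh_of_preservesEpimorphisms {C : Type (u + 1)} [Category.{u} C] (J : GrothendieckTopology C)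
    [HasSheafify J AddCommGrpCat.{u + 1}] [J.WEqualsLocallyBijective AddCommGrpCat.{u + 1}]
    [∀ U : C, HasSheafify (J.over U) AddCommGrpCat.{u + 1}]
    [HasInjectiveResolutions (Sheaf J AddCommGrpCat.{u + 1})] (F : Sheaf J AddCommGrpCat.{u + 1})
    [(HomSh.homShFunctor J F).PreservesEpimorphisms] (P : Sheaf J AddCommGrpCat.{u + 1}) (n : ℕ) :
    IsZero ((HomSh.extSh J F (n + 1)).obj P) := by
  haveI := CAlgH3.DualSix.preservesFiniteLimits_homShFunctor F
  haveI : (HomSh.homShFunctor J F).PreservesHomology :=
    Functor.preservesHomology_of_preservesEpis_and_kernels _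
  rw [HomSh.extSh_def]
  exact Et18.isZero_rightDerived_of_preservesHomology _ n P

end Groth.Agent.ExtLat27
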